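import Cfsg.Agent.ChevIsogeny.Check
import Cfsg.Prelude.Def_ChevB2

/-!
The certificate of the special isogeny of B2 in characteristic 2.
-/

set_option autoImplicit false

namespace Cfsg.Agent.ChevIsogeny.B2

open Cfsg.Lie

/-- the permutation, exponents and signs -/
def iso : IsoData where
  rho :=
    [1, 0, 3, 2, 5, 4, 7, 6]
  rhoI := [1, 0]
  lam0 :=
    [1, 2, 2, 1, 1, 2, 2, 1]
  eps :=
    [1, 1, 1, 1, 1, 1, 1, 1]
  md := 2

/-- the signs of the fundamental `n` on the root vectors -/
def etaList : List (List ℤ) :=
    [[-1, -1, -1, -1, -1, -1, -1, -1], [1, -1, 1, -1, -1, 1, -1, 1]]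

/-- the sign as a function -/
def eta (i r : ℕ) : ℤ := (etaList.getD i []).getD r 1

theorem base : iso.baseB chevB2 = true := by decide +kernel

theorem pairing : iso.pairingB chevB2 = true := by decide +kernel

theorem sign : iso.signB chevB2 eta = true := by decide +kernel

theorem simple : iso.simpleB chevB2 = true := by decide +kernel

theorem collect : iso.collectB chevB2 = true := by decide +kernel

end Cfsg.Agent.ChevIsogeny.B2
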