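import Cfsg.Agent.ChevIsogeny.Check
import Cfsg.Prelude.Def_ChevF4

/-!
The certificate of the special isogeny of F4 in characteristic 2.
-/

set_option autoImplicit false

namespace Cfsg.Agent.ChevIsogeny.F4

open Cfsg.Lie

/-- the permutation, exponents and signs -/
def iso : IsoData where
  rho :=
    [3, 7, 8, 0, 9, 11, 18, 1, 2, 4, 15, 5, 16, 21, 23, 10, 12, 19, 6, 17, 22, 13, 20, 14, 33,
    27, 34, 25, 30, 41, 28, 35, 37, 24, 26, 31, 42, 32, 43, 45, 46, 29, 36, 38, 47, 39, 40, 44]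
  rhoI := [3, 2, 1, 0]
  lam0 :=
    [1, 1, 1, 2, 1, 1, 1, 2, 2, 2, 2, 2, 2, 2, 2, 1, 1, 1, 2, 2, 2, 1, 1, 1, 1, 1, 1, 2, 2, 2, 1,
    1, 1, 2, 2, 2, 2, 2, 2, 2, 2, 1, 1, 1, 2, 1, 1, 1]
  eps :=
    [1, 1, 1, 1, 1, 1, 1, 1, 1, 1, 1, 1, 1, 1, 1, 1, 1, 1, 1, 1, 1, 1, 1, 1, 1, 1, 1, 1, 1, 1, 1,
    1, 1, 1, 1, 1, 1, 1, 1, 1, 1, 1, 1, 1, 1, 1, 1, 1]
  md := 2

/-- the signs of the fundamental `n` on the root vectors -/
def etaList : List (List ℤ) :=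
    [[1, 1, 1, -1, -1, -1, -1, 1, -1, -1, -1, 1, 1, 1, -1, -1, -1, -1, -1, -1, -1, 1, 1, 1, 1, 1,
    1, -1, -1, -1, -1, -1, -1, -1, 1, 1, 1, -1, -1, -1, 1, -1, -1, -1, -1, 1, 1, 1], [1, 1, 1,
    -1, 1, 1, 1, -1, 1, -1, -1, 1, 1, -1, 1, 1, -1, -1, -1, -1, -1, -1, -1, 1, 1, -1, -1, -1, -1,
    -1, -1, -1, 1, 1, -1, 1, 1, -1, -1, 1, -1, 1, 1, 1, -1, 1, 1, 1], [1, -1, 1, 1, -1, 1, 1, 1,
    -1, 1, 1, 1, -1, 1, 1, -1, 1, 1, 1, -1, 1, 1, -1, -1, -1, -1, 1, 1, -1, 1, 1, 1, -1, 1, 1,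
    -1, 1, 1, 1, -1, 1, 1, 1, -1, 1, 1, -1, 1], [-1, 1, 1, 1, 1, -1, 1, 1, 1, -1, 1, -1, 1, 1, 1,
    1, -1, 1, -1, 1, 1, -1, 1, -1, -1, 1, -1, 1, 1, -1, 1, -1, 1, 1, 1, 1, -1, 1, -1, 1, 1, 1,
    -1, 1, 1, 1, 1, -1]]

/-- the sign as a function -/
def eta (i r : ℕ) : ℤ := (etaList.getD i []).getD r 1

theorem base : iso.baseB chevF4 = true := by decide +kernel

theorem pairing : iso.pairingB chevF4 = true := by decide +kernel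

theorem sign : iso.signB chevF4 eta = true := by decide +kernel

theorem simple : iso.simpleB chevF4 = true := by decide +kernel

theorem collect : iso.collectB chevF4 = true := by decide +kernel

end Cfsg.Agent.ChevIsogeny.F4
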