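import Cfsg.Agent.ChevIsogeny.Check
import Cfsg.Prelude.Def_ChevG2

/-!
The certificate of the special isogeny of G2 in characteristic 3.
-/

set_option autoImplicit false

namespace Cfsg.Agent.ChevIsogeny.G2

open Cfsg.Lie

/-- the permutation, exponents and signs -/
def iso : IsoData where
  rho :=
    [2, 3, 0, 1, 5, 4, 7, 6, 10, 11, 8, 9]
  rhoI := [1, 0]
  lam0 :=
    [1, 1, 3, 3, 3, 1, 1, 3, 3, 3, 1, 1]
  eps :=
    [1, 1, 1, 1, 1, 1, 1, 1, 1, 1, 1, 1]
  md := 3

/-- the signs of the fundamental `n` on the root vectors -/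
def etaList : List (List ℤ) :=
    [[1, -1, -1, 1, -1, 1, 1, -1, 1, -1, -1, 1], [-1, 1, 1, -1, 1, -1, -1, 1, -1, 1, 1, -1]]

/-- the sign as a function -/
def eta (i r : ℕ) : ℤ := (etaList.getD i []).getD r 1

theorem base : iso.baseB chevG2 = true := by decide +kernel

theorem pairing : iso.pairingB chevG2 = true := by decide +kernel

theorem sign : iso.signB chevG2 eta = true := by decide +kernel

theorem simple : iso.simpleB chevG2 = true := by decide +kernel

theorem collect : iso.collectB chevG2 = true := by decide +kernel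

end Cfsg.Agent.ChevIsogeny.G2
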