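import Cfsg.Agent.ChevIsogeny.Check
import Cfsg.Prelude.Def_ChevD4

/-!
The certificate of the special isogeny of D4, triality.
-/

set_option autoImplicit false

namespace Cfsg.Agent.ChevIsogeny.D4

open Cfsg.Lie

/-- the permutation, exponents and signs -/
def iso : IsoData where
  rho :=
    [0, 1, 6, 2, 7, 10, 3, 8, 4, 9, 11, 5, 18, 12, 14, 19, 15, 20, 13, 16, 21, 17, 22, 23]
  rhoI := [2, 1, 3, 0]
  lam0 :=
    [1, 1, 1, 1, 1, 1, 1, 1, 1, 1, 1, 1, 1, 1, 1, 1, 1, 1, 1, 1, 1, 1, 1, 1]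
  eps :=
    [1, 1, -1, 1, -1, 1, -1, 1, -1, 1, 1, 1, 1, 1, 1, -1, 1, -1, 1, -1, 1, -1, 1, 1]
  md := 0

/-- the signs of the fundamental `n` on the root vectors -/
def etaList : List (List ℤ) :=
    [[1, 1, 1, 1, 1, -1, -1, -1, -1, -1, 1, 1, 1, 1, -1, -1, -1, -1, -1, 1, 1, 1, 1, 1], [-1, 1,
    1, 1, -1, 1, 1, 1, 1, -1, -1, -1, -1, -1, -1, 1, 1, 1, 1, -1, 1, 1, 1, -1], [1, -1, -1, 1, 1,
    1, -1, -1, 1, 1, -1, 1, 1, -1, 1, 1, -1, -1, 1, 1, 1, -1, -1, 1], [1, -1, 1, -1, 1, 1, -1, 1,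
    -1, 1, 1, -1, -1, 1, 1, -1, 1, -1, 1, 1, -1, 1, -1, 1]]

/-- the sign as a function -/
def eta (i r : ℕ) : ℤ := (etaList.getD i []).getD r 1

theorem base : iso.baseB chevD4 = true := by decide +kernel

theorem pairing : iso.pairingB chevD4 = true := by decide +kernel

theorem sign : iso.signB chevD4 eta = true := by decide +kernel

theorem simple : iso.simpleB chevD4 = true := by decide +kernel

theorem collect : iso.collectB chevD4 = true := by decide +kernel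

end Cfsg.Agent.ChevIsogeny.D4
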